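import Mathlib
import Cfsg.Agent.Lib.M23Struct19.Quot
import Cfsg.Agent.Lib.M22Struct66.Stab

/-!
# Type M(23): double counts around a non-commuting pair

The quotient at a member supplies the local numbers 3510, 693, 180, 126, 45.  For `μ` common neighbours of a
non-commuting pair two Cauchy-Schwarz inequalities leave `μ = 351`, and then the second one is an equality.
The organisation follows the count for M(22) in `M22Struct66/Count.lean`.
-/

set_option autoImplicit false

namespace Cfsg.Agent.Lib.M23Struct19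

open Cfsg Cfsg.Agent.Lib.ThreeTransp Finset
open Cfsg.Agent.Lib.M22Struct66 (nb com2 fin mem_fin card_filter_fin sum_count sum_count_sq)

attribute [local instance] Classical.propDecidable

variable {G : Type*} [Group G] [Finite G] {D : Set G}

/-- The standing hypotheses of type M(23). -/
structure Base (D : Set G) : Prop where
  grp : IsThreeTranspositionGroup D
  prim : IsPrimitiveUnderConj D
  m23 : IsOfTypeM23 G D

namespace Base

variable (hD : Base D)
include hD

theorem set : IsThreeTranspositionSet D := hD.grp.1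

theorem conj : ∀ g : G, ∀ d ∈ D, g * d * g⁻¹ ∈ D := hD.grp.2.1

theorem good : Products.Good D := (good_of_m23 hD.grp hD.m23).1

theorem nb_symm {x y : G} (hx : x ∈ D) (hy : y ∈ nb D x) : x ∈ nb D y := ⟨hx, hy.2.1.symm, hy.2.2.symm⟩

theorem com2_cj (g x y : G) : (fun z => g * z * g⁻¹) '' com2 D x y = com2 D (g * x * g⁻¹) (g * y * g⁻¹) := by
  rw [Set.image_inter (fun a b h => mul_left_cancel (mul_right_cancel h))]
  exact congrArg₂ (· ∩ ·) (Products.nbr_conj_image hD.grp g x) (Products.nbr_conj_image hD.grp g y)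

theorem ncard_com2_cj (g x y : G) : (com2 D (g * x * g⁻¹) (g * y * g⁻¹)).ncard = (com2 D x y).ncard := by
  rw [← hD.com2_cj, Set.ncard_image_of_injective _ fun a b h => mul_left_cancel (mul_right_cancel h)]

/-- All non-commuting pairs have equally many common neighbours. -/
theorem ncard_com2_eq {a b c e : G} (ha : a ∈ D) (hb : b ∈ D) (hab : ¬ Commute a b) (hc : c ∈ D) (he : e ∈ D)
    (hce : ¬ Commute c e) : (com2 D a b).ncard = (com2 D c e).ncard := by
  obtain ⟨g, hg⟩ := hD.prim.1 a ha c hc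
  have hb' : g * b * g⁻¹ ∈ D := hD.conj g b hb
  have hcb : ¬ Commute c (g * b * g⁻¹) := fun h => hab ((commute_conj_iff g).1 (by rwa [hg]))
  obtain ⟨k, hk, hke⟩ := M23Struct19.transitive_outside hD.grp hD.m23 hc hD.prim hb' he hcb hce
  have := hD.ncard_com2_cj k c (g * b * g⁻¹)
  rw [hke, hk.eq, mul_inv_cancel_right] at this
  rw [this, ← hg, hD.ncard_com2_cj]

section Local

variable {d : G} (hd : d ∈ D)
include hd

/-- The M(22) facts of the quotient at `d`. -/
theorem exists_counted_quot :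
    ∃ (F : Type) (_ : Field F) (_ : Fintype F), M22Struct66.Counted (Products.nbrImage D d) F := by
  have hE := quot_group hD.grp hD.good hd
  have h22 := isOfTypeM22_quot hD.grp hD.m23 hd
  exact M22Struct66.exists_counted hE (primitive_of_m22 hE h22) h22

theorem img_mem {x : G} (hx : x ∈ nb D d) : img hx ∈ Products.nbrImage D d := ⟨_, hx, rfl⟩

theorem img_nb {x y : G} (hx : x ∈ nb D d) (hy : y ∈ nb D d) :
    img hy ∈ nb (Products.nbrImage D d) (img hx) ↔ y ∈ nb D x := by
  constructor
  · rintro ⟨-, hne, hcom⟩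
    refine ⟨hy.1, ?_, (img_commute hD.grp hD.good hd hx hy).1 hcom⟩
    rintro rfl
    exact hne rfl
  · rintro ⟨-, hne, hcom⟩
    exact ⟨hD.img_mem hd hy, fun e => hne (img_inj hD.grp hD.good hd hy hx e),
      (img_commute hD.grp hD.good hd hx hy).2 hcom⟩

/-- Counting inside `nb D d` is counting in the quotient. -/
theorem ncard_via_quot (M : Set G) (hM : M ⊆ nb D d)
    (N : Set (↥(Subgroup.closure (nb D d)) ⧸ Subgroup.center ↥(Subgroup.closure (nb D d))))
    (hN : N ⊆ Products.nbrImage D d) (h : ∀ x (hx : x ∈ nb D d), x ∈ M ↔ img hx ∈ N) : M.ncard = N.ncard := by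
  refine Set.ncard_congr (fun x hx => img (hM hx)) (fun x hx => (h x (hM hx)).1 hx)
    (fun x y hx hy e => img_inj hD.grp hD.good hd (hM hx) (hM hy) e) fun X hX => ?_
  obtain ⟨⟨x, hx'⟩, hx, rfl⟩ := hN hX
  exact ⟨x, (h x hx).2 hX, rfl⟩

theorem ncard_nb : (nb D d).ncard = 3510 := by
  obtain ⟨F, _, _, hQ⟩ := hD.exists_counted_quot hd
  rw [hD.ncard_via_quot hd _ subset_rfl _ subset_rfl fun x hx => iff_of_true hx (hD.img_mem hd hx)]
  exact hQ.ncard_D

theorem ncard_com2_commute {e : G} (he : e ∈ nb D d) : (com2 D d e).ncard = 693 := by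
  obtain ⟨F, _, _, hQ⟩ := hD.exists_counted_quot hd
  rw [hD.ncard_via_quot hd _ Set.inter_subset_left (nb (Products.nbrImage D d) (img he)) (fun X hX => hX.1)
    fun x hx => ⟨fun h => (hD.img_nb hd he hx).2 h.2, fun h => ⟨hx, (hD.img_nb hd he hx).1 h⟩⟩]
  exact hQ.toCharted.ncard_nb (hD.img_mem hd he)

theorem ncard_com3_commute {b c : G} (hb : b ∈ nb D d) (hc : c ∈ com2 D d b) :
    (nb D d ∩ nb D b ∩ nb D c).ncard = 180 := by
  obtain ⟨F, _, _, hQ⟩ := hD.exists_counted_quot hd
  rw [hD.ncard_via_quot hd (nb D d ∩ nb D b ∩ nb D c) (fun x hx => hx.1.1) (com2 (Products.nbrImage D d) (img hb) (img hc.1))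
    (fun X hX => hX.1.1) fun x hx => ⟨fun h => ⟨(hD.img_nb hd hb hx).2 h.1.2, (hD.img_nb hd hc.1 hx).2 h.2⟩,
      fun h => ⟨⟨hx, (hD.img_nb hd hb hx).1 h.1⟩, (hD.img_nb hd hc.1 hx).1 h.2⟩⟩]
  exact hQ.toCharted.ncard_com2_commute (hD.img_mem hd hb) ((hD.img_nb hd hb hc.1).2 hc.2)

theorem ncard_com3_not {b c : G} (hb : b ∈ nb D d) (hc : c ∈ nb D d) (hbc : ¬ Commute b c) :
    (nb D d ∩ nb D b ∩ nb D c).ncard = 126 := by
  obtain ⟨F, _, _, hQ⟩ := hD.exists_counted_quot hd
  rw [hD.ncard_via_quot hd (nb D d ∩ nb D b ∩ nb D c) (fun x hx => hx.1.1) (com2 (Products.nbrImage D d) (img hb) (img hc))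
    (fun X hX => hX.1.1) fun x hx => ⟨fun h => ⟨(hD.img_nb hd hb hx).2 h.1.2, (hD.img_nb hd hc hx).2 h.2⟩,
      fun h => ⟨⟨hx, (hD.img_nb hd hb hx).1 h.1⟩, (hD.img_nb hd hc hx).1 h.2⟩⟩]
  exact hQ.com126 _ (hD.img_mem hd hb) _ (hD.img_mem hd hc)
    fun h => hbc ((img_commute hD.grp hD.good hd hb hc).1 h)

end Local

variable {d c : G} (hd : d ∈ D) (hc : c ∈ D) (hdc : ¬ Commute d c)
include hd hc hdc

theorem ncard_com2_nb {u : G} (hu : u ∈ com2 D d c) : (com2 D d c ∩ nb D u).ncard = 126 := by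
  rw [← hD.ncard_com3_not hu.1.1 (hD.nb_symm hd hu.1) (hD.nb_symm hc hu.2) hdc]
  congr 1
  ext x
  exact ⟨fun h => ⟨⟨h.2, h.1.1⟩, h.1.2⟩, fun h => ⟨⟨h.1.2, h.2⟩, h.1.1⟩⟩

theorem ncard_com2_nb_nb {u v : G} (hu : u ∈ com2 D d c) (hv : v ∈ com2 D d c ∩ nb D u) :
    (com2 D d c ∩ nb D u ∩ nb D v).ncard = 45 := by
  obtain ⟨F, _, _, hQ⟩ := hD.exists_counted_quot hu.1.1
  have hdu := hD.nb_symm hd hu.1
  have hcu := hD.nb_symm hc hu.2
  have hnc : ¬ Commute (img hdu) (img hcu) := fun h => hdc ((img_commute hD.grp hD.good hu.1.1 hdu hcu).1 h)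
  rw [hD.ncard_via_quot hu.1.1 (com2 D d c ∩ nb D u ∩ nb D v) (fun x hx => hx.1.2) (com2 (Products.nbrImage D u) (img hdu) (img hcu) ∩
      nb (Products.nbrImage D u) (img hv.2)) (fun X hX => hX.2.1) fun x hx =>
      ⟨fun h => ⟨⟨(hD.img_nb hu.1.1 hdu hx).2 h.1.1.1, (hD.img_nb hu.1.1 hcu hx).2 h.1.1.2⟩,
          (hD.img_nb hu.1.1 hv.2 hx).2 h.2⟩,
        fun h => ⟨⟨⟨(hD.img_nb hu.1.1 hdu hx).1 h.1.1, (hD.img_nb hu.1.1 hcu hx).1 h.1.2⟩, hx⟩,
          (hD.img_nb hu.1.1 hv.2 hx).1 h.2⟩⟩]
  exact hQ.toCharted.ncard_com2_nb (hD.img_mem hu.1.1 hdu) (hD.img_mem hu.1.1 hcu) hnc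
    ⟨(hD.img_nb hu.1.1 hdu hv.2).2 hv.1.1, (hD.img_nb hu.1.1 hcu hv.2).2 hv.1.2⟩

/-- The commuting and the non-commuting members of `com2 D d c` seen from one of them. -/
theorem com2_split {u : G} (hu : u ∈ com2 D d c) :
    ((fin (com2 D d c)).filter fun v => v ≠ u ∧ Commute u v).card = 126 ∧
    ((fin (com2 D d c)).filter fun v => ¬ Commute u v).card + 127 = (com2 D d c).ncard ∧
    ∀ f : G → ℕ, ∑ v ∈ fin (com2 D d c), f v = f u +
      (∑ v ∈ (fin (com2 D d c)).filter (fun v => v ≠ u ∧ Commute u v), f v) +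
      ∑ v ∈ (fin (com2 D d c)).filter (fun v => ¬ Commute u v), f v := by
  have h126 : ((fin (com2 D d c)).filter fun v => v ≠ u ∧ Commute u v).card = 126 := by
    rw [card_filter_fin, ← hD.ncard_com2_nb hd hc hdc hu]
    congr 1
    ext v
    exact ⟨fun h => ⟨h.1, h.1.1.1, h.2.1, h.2.2⟩, fun h => ⟨h.1, h.2.2.1, h.2.2.2⟩⟩
  have hsum : ∀ f : G → ℕ, ∑ v ∈ fin (com2 D d c), f v = f u +
      (∑ v ∈ (fin (com2 D d c)).filter (fun v => v ≠ u ∧ Commute u v), f v) +
      ∑ v ∈ (fin (com2 D d c)).filter (fun v => ¬ Commute u v), f v := by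
    intro f
    rw [← Finset.sum_filter_add_sum_filter_not (fin (com2 D d c)) (fun v => Commute u v),
      ← Finset.add_sum_erase _ f (show u ∈ (fin (com2 D d c)).filter (fun v => Commute u v) by
        simp [hu, Commute.refl])]
    congr 2
    refine Finset.sum_congr ?_ fun _ _ => rfl
    ext v
    simp [and_left_comm]
  refine ⟨h126, ?_, hsum⟩
  have := hsum fun _ => 1
  simp only [Finset.sum_const, smul_eq_mul, mul_one, h126, M22Struct66.card_fin] at this
  omega

/-- Commuting pairs across: the neighbours of `u` inside meet the non-neighbours 80 times each. -/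
theorem sum_q {u : G} (hu : u ∈ com2 D d c) :
    ∑ v ∈ (fin (com2 D d c)).filter (fun v => ¬ Commute u v),
      (((fin (com2 D d c)).filter fun w => w ≠ u ∧ Commute u w).filter fun w => Commute v w).card = 10080 := by
  obtain ⟨h456, -, -⟩ := hD.com2_split hd hc hdc hu
  rw [sum_count, Finset.sum_eq_card_nsmul (b := 80) (fun w hw => ?_), h456, smul_eq_mul]
  simp only [Finset.mem_filter, mem_fin] at hw
  obtain ⟨hwL, hwu, hcw⟩ := hw
  obtain ⟨g126, -, gsum⟩ := hD.com2_split hd hc hdc hu
  have hwN := hD.ncard_com2_nb hd hc hdc hwL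
  have h45 := hD.ncard_com2_nb_nb hd hc hdc hu ⟨hwL, hwL.1.1, hwu, hcw⟩
  have key := gsum fun v => if v ≠ w ∧ Commute w v then 1 else 0
  rw [← Finset.card_filter, ← Finset.card_filter, ← Finset.card_filter, if_pos ⟨hwu.symm, hcw.symm⟩,
    Finset.filter_filter, Finset.filter_filter, card_filter_fin, card_filter_fin, card_filter_fin] at key
  rw [Finset.filter_filter, card_filter_fin]
  have e1 : {x | x ∈ com2 D d c ∧ x ≠ w ∧ Commute w x} = com2 D d c ∩ nb D w := by
    ext x; exact ⟨fun h => ⟨h.1, h.1.1.1, h.2.1, h.2.2⟩, fun h => ⟨h.1, h.2.2.1, h.2.2.2⟩⟩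
  have e2 : {x | x ∈ com2 D d c ∧ (x ≠ u ∧ Commute u x) ∧ x ≠ w ∧ Commute w x} =
      com2 D d c ∩ nb D u ∩ nb D w := by
    ext x
    exact ⟨fun h => ⟨⟨h.1, h.1.1.1, h.2.1.1, h.2.1.2⟩, h.1.1.1, h.2.2.1, h.2.2.2⟩,
      fun h => ⟨h.1.1, ⟨h.1.2.2.1, h.1.2.2.2⟩, h.2.2.1, h.2.2.2⟩⟩
  have e3 : {x | x ∈ com2 D d c ∧ ¬ Commute u x ∧ x ≠ w ∧ Commute w x} =
      {x | x ∈ com2 D d c ∧ ¬ Commute u x ∧ Commute x w} := by
    ext x
    exact ⟨fun h => ⟨h.1, h.2.1, h.2.2.2.symm⟩,
      fun h => ⟨h.1, h.2.1, fun e => h.2.1 (e ▸ hcw), h.2.2.symm⟩⟩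
  rw [e1, e2, e3, hwN, h45] at key
  omega

/-- Members of `com2 D d c` seen from the other neighbours of `d`. -/
theorem cauchy_inner :
    (567 * (com2 D d c).ncard) ^ 2 ≤
      (3510 - (com2 D d c).ncard) * ((com2 D d c).ncard * (126 * (com2 D d c).ncard - 8505)) := by
  set L := fin (com2 D d c) with hL
  set μ := (com2 D d c).ncard
  set s := (fin (nb D d)).filter (fun x => x ∉ com2 D d c) with hs
  have hsum : ∀ (p : G → Prop) [DecidablePred p], (s.filter p).card + (L.filter p).card = ((fin (nb D d)).filter p).card := by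
    intro p _
    rw [← Finset.card_filter_add_card_filter_not (s := (fin (nb D d)).filter p) (fun x => x ∉ com2 D d c),
      hs, Finset.filter_comm]
    congr 2
    ext x
    simp only [hL, Finset.mem_filter, mem_fin, not_not]
    exact ⟨fun h => ⟨⟨h.1.1, h.2⟩, h.1⟩, fun h => ⟨h.2, h.1.2⟩⟩
  have hone : ∀ u ∈ L, (s.filter fun x => Commute x u).card = 567 := by
    intro u hu
    rw [hL, mem_fin] at hu
    have h1 : ((fin (nb D d)).filter fun x => Commute x u).card = 694 := by
      rw [card_filter_fin, show {x | x ∈ nb D d ∧ Commute x u} = insert u (com2 D d u) by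
        ext x
        constructor
        · intro h
          by_cases hxu : x = u
          · exact Or.inl hxu
          · exact Or.inr ⟨h.1, h.1.1, hxu, h.2.symm⟩
        · rintro (rfl | h)
          exacts [⟨hu.1, Commute.refl _⟩, ⟨h.1, h.2.2.2.symm⟩],
        Set.ncard_insert_of_notMem (fun h => h.2.2.1 rfl), hD.ncard_com2_commute hd hu.1]
    have h2 : (L.filter fun x => Commute x u).card = 127 := by
      rw [hL, card_filter_fin, show {x | x ∈ com2 D d c ∧ Commute x u} = insert u (com2 D d c ∩ nb D u) by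
        ext x
        constructor
        · intro h
          by_cases hxu : x = u
          · exact Or.inl hxu
          · exact Or.inr ⟨h.1, h.1.1.1, hxu, h.2.symm⟩
        · rintro (rfl | h)
          exacts [⟨hu, Commute.refl _⟩, ⟨h.1, h.2.2.2.symm⟩],
        Set.ncard_insert_of_notMem (fun h => h.2.2.1 rfl), hD.ncard_com2_nb hd hc hdc hu]
    have := hsum fun x => Commute x u
    omega
  have hS1 : ∑ x ∈ s, (L.filter fun u => Commute x u).card = 567 * μ := by
    rw [sum_count, Finset.sum_eq_card_nsmul hone, hL, M22Struct66.card_fin, smul_eq_mul, mul_comm]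
  have hS2 : ∑ x ∈ s, (L.filter fun u => Commute x u).card ^ 2 = μ * (126 * μ - 8505) := by
    rw [sum_count_sq, Finset.sum_eq_card_nsmul (b := 126 * μ - 8505), hL, M22Struct66.card_fin, smul_eq_mul]
    intro u hu
    have hu' : u ∈ com2 D d c := by simpa [hL] using hu
    obtain ⟨g126, gnc, gsum⟩ := hD.com2_split hd hc hdc hu'
    rw [hL, gsum]
    have t0 : (s.filter fun x => Commute x u ∧ Commute x u).card = 567 := by
      simpa only [and_self_iff] using hone u hu
    have t1 : ∀ v ∈ L.filter (fun v => v ≠ u ∧ Commute u v),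
        (s.filter fun x => Commute x u ∧ Commute x v).card = 135 := by
      intro v hv
      simp only [hL, Finset.mem_filter, mem_fin] at hv
      obtain ⟨hv, hvu, huv⟩ := hv
      have a1 := hD.ncard_com3_commute hd hu'.1 ⟨⟨hv.1.1, hv.1.2.1, hv.1.2.2⟩, hv.1.1, hvu, huv⟩
      have a2 := hD.ncard_com2_nb_nb hd hc hdc hu' ⟨hv, hv.1.1, hvu, huv⟩
      have h1 : ((fin (nb D d)).filter fun x => Commute x u ∧ Commute x v).card = 182 := by
        rw [card_filter_fin, show {x | x ∈ nb D d ∧ Commute x u ∧ Commute x v} =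
            ({u, v} : Set G) ∪ nb D d ∩ nb D u ∩ nb D v by
          ext x
          constructor
          · intro h
            by_cases hxu : x = u
            · exact Or.inl (Or.inl hxu)
            by_cases hxv : x = v
            · exact Or.inl (Or.inr hxv)
            exact Or.inr ⟨⟨h.1, h.1.1, hxu, h.2.1.symm⟩, h.1.1, hxv, h.2.2.symm⟩
          · rintro ((rfl | rfl) | h)
            exacts [⟨hu'.1, Commute.refl _, huv⟩, ⟨hv.1, huv.symm, Commute.refl _⟩,
              ⟨h.1.1, h.1.2.2.2.symm, h.2.2.2.symm⟩],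
          Set.ncard_union_eq, Set.ncard_pair hvu.symm, a1]
        rw [Set.disjoint_left]
        rintro x (rfl | rfl) h
        exacts [h.1.2.2.1 rfl, h.2.2.1 rfl]
      have h2 : (L.filter fun x => Commute x u ∧ Commute x v).card = 47 := by
        rw [hL, card_filter_fin, show {x | x ∈ com2 D d c ∧ Commute x u ∧ Commute x v} =
            ({u, v} : Set G) ∪ com2 D d c ∩ nb D u ∩ nb D v by
          ext x
          constructor
          · intro h
            by_cases hxu : x = u
            · exact Or.inl (Or.inl hxu)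
            by_cases hxv : x = v
            · exact Or.inl (Or.inr hxv)
            exact Or.inr ⟨⟨h.1, h.1.1.1, hxu, h.2.1.symm⟩, h.1.1.1, hxv, h.2.2.symm⟩
          · rintro ((rfl | rfl) | h)
            exacts [⟨hu', Commute.refl _, huv⟩, ⟨hv, huv.symm, Commute.refl _⟩,
              ⟨h.1.1, h.1.2.2.2.symm, h.2.2.2.symm⟩],
          Set.ncard_union_eq, Set.ncard_pair hvu.symm, a2]
        rw [Set.disjoint_left]
        rintro x (rfl | rfl) h
        exacts [h.1.2.2.1 rfl, h.2.2.1 rfl]
      have := hsum fun x => Commute x u ∧ Commute x v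
      omega
    have t2 : ∀ v ∈ L.filter (fun v => ¬ Commute u v),
        (s.filter fun x => Commute x u ∧ Commute x v).card +
          ((L.filter fun w => w ≠ u ∧ Commute u w).filter fun w => Commute v w).card = 126 := by
      intro v hv
      simp only [hL, Finset.mem_filter, mem_fin] at hv
      obtain ⟨hv, huv⟩ := hv
      have a1 := hD.ncard_com3_not hd hu'.1 hv.1 huv
      have h1 : ((fin (nb D d)).filter fun x => Commute x u ∧ Commute x v).card = 126 := by
        rw [card_filter_fin, ← a1]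
        congr 1
        ext x
        exact ⟨fun h => ⟨⟨h.1, h.1.1, fun e => huv (e ▸ h.2.2), h.2.1.symm⟩, h.1.1,
            fun e => huv (e ▸ h.2.1).symm, h.2.2.symm⟩,
          fun h => ⟨h.1.1, h.1.2.2.2.symm, h.2.2.2.symm⟩⟩
      have h2 : (L.filter fun x => Commute x u ∧ Commute x v) =
          (L.filter fun w => w ≠ u ∧ Commute u w).filter fun w => Commute v w := by
        ext x
        simp only [Finset.mem_filter]
        exact ⟨fun h => ⟨⟨h.1, fun e => huv (e ▸ h.2.2), h.2.1.symm⟩, h.2.2.symm⟩,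
          fun h => ⟨h.1.1, h.1.2.2.symm, h.2.symm⟩⟩
      have := hsum fun x => Commute x u ∧ Commute x v
      rw [h2] at this
      omega
    have t2' := Finset.sum_eq_card_nsmul t2
    rw [Finset.sum_add_distrib, hD.sum_q hd hc hdc hu', smul_eq_mul] at t2'
    rw [t0, Finset.sum_eq_card_nsmul t1, g126, smul_eq_mul]
    rw [hL] at t2'
    omega
  have hscard : s.card = 3510 - μ := by
    have := hsum fun _ => True
    simp only [Finset.filter_true] at this
    rw [hL, M22Struct66.card_fin, M22Struct66.card_fin, hD.ncard_nb hd] at this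
    omega
  have := sq_sum_le_card_mul_sum_sq (s := s) (f := fun x => (L.filter fun u => Commute x u).card)
  rw [hS1, hS2, hscard] at this
  exact this

omit hc hdc in
/-- The members not commuting with `d`, counted through its neighbours. -/
theorem card_outside {c : G} (hc : c ∈ D) (hdc : ¬ Commute d c) :
    {y | y ∈ D ∧ ¬ Commute d y}.ncard * (com2 D d c).ncard = 9884160 ∧
      D.ncard = 3511 + {y | y ∈ D ∧ ¬ Commute d y}.ncard := by
  set A := fin {y | y ∈ D ∧ ¬ Commute d y} with hA
  have hone : ∀ y ∈ A, ((fin (nb D d)).filter fun e => Commute y e).card = (com2 D d c).ncard := by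
    intro y hy
    rw [hA, mem_fin] at hy
    rw [card_filter_fin, hD.ncard_com2_eq hd hc hdc hd hy.1 hy.2]
    congr 1
    ext e
    exact ⟨fun h => ⟨h.1, h.1.1, fun k => hy.2 (k ▸ h.1.2.2), h.2⟩, fun h => ⟨h.1, h.2.2.2⟩⟩
  have htwo : ∀ e ∈ fin (nb D d), (A.filter fun y => Commute y e).card = 2816 := by
    intro e he
    rw [mem_fin] at he
    rw [hA, card_filter_fin]
    have hcom := hD.ncard_com2_commute hd he
    have h3510 := hD.ncard_nb he.1
    have : {y | y ∈ {y | y ∈ D ∧ ¬ Commute d y} ∧ Commute y e} = nb D e \ insert d (com2 D d e) := by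
      ext y
      constructor
      · rintro ⟨⟨h1, h2⟩, h3⟩
        refine ⟨⟨h1, fun k => h2 (k ▸ he.2.2), h3.symm⟩, ?_⟩
        rintro (rfl | h)
        exacts [h2 (Commute.refl _), h2 h.1.2.2]
      · rintro ⟨h1, h2⟩
        refine ⟨⟨h1.1, fun h => h2 ?_⟩, h1.2.2.symm⟩
        by_cases hyd : y = d
        · exact Or.inl hyd
        · exact Or.inr ⟨⟨h1.1, hyd, h⟩, h1⟩
    rw [this, Set.ncard_sdiff ?_, Set.ncard_insert_of_notMem (fun h => h.1.2.1 rfl), hcom, h3510]
    rintro x (rfl | h)
    exacts [hD.nb_symm hd he, h.2]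
  have h := sum_count A (fin (nb D d)) fun y e => Commute y e
  rw [Finset.sum_eq_card_nsmul hone, Finset.sum_eq_card_nsmul htwo, hA, M22Struct66.card_fin, M22Struct66.card_fin,
    hD.ncard_nb hd, smul_eq_mul, smul_eq_mul] at h
  refine ⟨h, ?_⟩
  have hsplit : D = insert d (nb D d) ∪ {y | y ∈ D ∧ ¬ Commute d y} := by
    ext y
    constructor
    · intro hy
      by_cases h1 : Commute d y
      · left
        by_cases h2 : y = d
        · exact Or.inl h2
        · exact Or.inr ⟨hy, h2, h1⟩
      · exact Or.inr ⟨hy, h1⟩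
    · rintro ((rfl | h) | h)
      exacts [hd, h.1, h.1]
  conv_lhs => rw [hsplit]
  rw [Set.ncard_union_eq ?_, Set.ncard_insert_of_notMem (fun h => h.2.1 rfl), hD.ncard_nb hd]
  rw [Set.disjoint_left]
  rintro y (rfl | h) h'
  exacts [h'.2 (Commute.refl _), h'.2 h.2.2]

/-- Inclusion and exclusion over the line `{d, c, d c d}`. -/
theorem line_count (X : Finset G) :
    (X.filter fun a => ¬ Commute a d ∧ ¬ Commute a c ∧ ¬ Commute a (d * c * d)).card +
      (X.filter fun a => Commute a d).card + (X.filter fun a => Commute a c).card +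
      (X.filter fun a => Commute a (d * c * d)).card =
      X.card + 2 * (X.filter fun a => Commute a d ∧ Commute a c).card := by
  rw [Finset.card_eq_sum_ones X]
  simp only [Finset.card_filter, Finset.mul_sum, ← Finset.sum_add_distrib]
  refine Finset.sum_congr rfl fun a _ => ?_
  have i1 : Commute a d → Commute a c → Commute a (d * c * d) := fun h1 h2 => (h1.mul_right h2).mul_right h1
  have i2 : Commute a d → Commute a (d * c * d) → Commute a c := fun h1 h2 => by
    have := (h1.mul_right h2).mul_right h1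
    simpa [mul_assoc, mul_self hD.set hd, mul_self_assoc hD.set hd] using this
  have i3 : Commute a c → Commute a (d * c * d) → Commute a d := fun h1 h2 => by
    rw [braid hD.set hd hc hdc] at h2
    have := (h1.mul_right h2).mul_right h1
    simpa [mul_assoc, mul_self hD.set hc, mul_self_assoc hD.set hc] using this
  by_cases h1 : Commute a d <;> by_cases h2 : Commute a c <;> by_cases h3 : Commute a (d * c * d) <;>
    simp only [h1, h2, h3, not_true_eq_false, not_false_eq_true, and_self, and_true, true_and, and_false,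
      false_and, if_true, if_false] <;> simp_all

/-- The members off all three points of a line, against the common neighbours of the line. -/
theorem cauchy_outer :
    (fin D |>.filter fun a => ¬ Commute a d ∧ ¬ Commute a c ∧ ¬ Commute a (d * c * d)).card + 10533 =
        D.ncard + 2 * (com2 D d c).ncard ∧
    ∃ T : ℕ, T + 381 * ((com2 D d c).ncard - 127) =
        31920 + (com2 D d c).ncard * ((com2 D d c).ncard - 127) + 20160 ∧
      ∀ s' ⊆ (fin D).filter fun a => ¬ Commute a d ∧ ¬ Commute a c ∧ ¬ Commute a (d * c * d),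
        (∀ a ∈ (fin D).filter (fun a => ¬ Commute a d ∧ ¬ Commute a c ∧ ¬ Commute a (d * c * d)),
            a ∉ s' → ∀ u ∈ com2 D d c, ¬ Commute a u) →
          (1680 * (com2 D d c).ncard) ^ 2 ≤ s'.card * ((com2 D d c).ncard * T) := by
  set z := d * c * d with hzdef
  have hz : z ∈ D := third_mem hD.set hD.conj hd hc
  have hdz : ¬ Commute d z := not_commute_third hD.set hd hc hdc
  have hcz : ¬ Commute c z := fun h => by
    rw [hzdef, braid hD.set hd hc hdc] at h
    exact not_commute_third hD.set hc hd (fun h => hdc h.symm) h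
  set R := (fin D).filter fun a => ¬ Commute a d ∧ ¬ Commute a c ∧ ¬ Commute a z with hR
  set L := fin (com2 D d c) with hL
  set μ := (com2 D d c).ncard with hμ
  have hzL : ∀ u ∈ com2 D d c, u ∈ nb D z := fun u hu =>
    ⟨hu.1.1, fun e => hdz (e ▸ hu.1.2.2), ((hu.1.2.2.mul_left hu.2.2.2).mul_left hu.1.2.2)⟩
  -- members of `D` commuting with a given point of the line
  have hCD : ∀ p ∈ D, ((fin D).filter fun a => Commute a p).card = 3511 := by
    intro p hp
    rw [card_filter_fin, show {a | a ∈ D ∧ Commute a p} = insert p (nb D p) by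
      ext a
      constructor
      · intro h
        by_cases hap : a = p
        · exact Or.inl hap
        · exact Or.inr ⟨h.1, hap, h.2.symm⟩
      · rintro (rfl | h)
        exacts [⟨hp, Commute.refl _⟩, ⟨h.1, h.2.2.symm⟩],
      Set.ncard_insert_of_notMem (fun h => h.2.1 rfl), hD.ncard_nb hp]
  have hboth : ∀ Y : Set G, Y ⊆ D → ((fin Y).filter fun a => Commute a d ∧ Commute a c).card =
      (Y ∩ com2 D d c).ncard := by
    intro Y hY
    rw [card_filter_fin]
    congr 1
    ext a
    exact ⟨fun h => ⟨h.1, ⟨hY h.1, fun e => hdc (e ▸ h.2.2), h.2.1.symm⟩, hY h.1,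
        fun e => hdc (e ▸ h.2.1).symm, h.2.2.symm⟩,
      fun h => ⟨h.1, h.2.1.2.2.symm, h.2.2.2.2.symm⟩⟩
  refine ⟨?_, ?_⟩
  · have h := hD.line_count hd hc hdc (fin D)
    rw [← hzdef, hboth D subset_rfl, Set.inter_eq_right.2 (fun u hu => hu.1.1), M22Struct66.card_fin, hCD d hd, hCD c hc,
      hCD z hz] at h
    rw [← hR] at h
    omega
  -- one common neighbour
  have hone : ∀ u ∈ L, (R.filter fun a => Commute a u).card = 1680 := by
    intro u hu
    rw [hL, mem_fin] at hu
    have hp : ∀ p ∈ [d, c, z], u ∈ nb D p ∧ p ∈ D := by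
      simp only [List.forall_mem_cons]
      exact ⟨⟨hu.1, hd⟩, ⟨hu.2, hc⟩, ⟨hzL u hu, hz⟩, by simp⟩
    have hcnt : ∀ p ∈ [d, c, z], ((fin (nb D u)).filter fun a => Commute a p).card = 694 := by
      intro p hpm
      obtain ⟨hup, hpD⟩ := hp p hpm
      rw [card_filter_fin, show {a | a ∈ nb D u ∧ Commute a p} = insert p (com2 D p u) by
        ext a
        constructor
        · intro h
          by_cases hap : a = p
          · exact Or.inl hap
          · exact Or.inr ⟨⟨h.1.1, hap, h.2.symm⟩, h.1⟩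
        · rintro (rfl | h)
          exacts [⟨hD.nb_symm hpD hup, Commute.refl _⟩, ⟨h.2, h.1.2.2.symm⟩],
        Set.ncard_insert_of_notMem (fun h => h.1.2.1 rfl), hD.ncard_com2_commute hpD hup]
    have h := hD.line_count hd hc hdc (fin (nb D u))
    rw [← hzdef, hboth _ (fun a ha => ha.1), Set.inter_comm (nb D u) (com2 D d c),
      hD.ncard_com2_nb hd hc hdc hu, M22Struct66.card_fin, hD.ncard_nb hu.1.1, hcnt d (by simp), hcnt c (by simp),
      hcnt z (by simp)] at h
    have heq : (R.filter fun a => Commute a u) =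
        (fin (nb D u)).filter fun a => ¬ Commute a d ∧ ¬ Commute a c ∧ ¬ Commute a z := by
      ext a
      simp only [hR, Finset.mem_filter, mem_fin]
      exact ⟨fun h => ⟨⟨h.1.1, fun e => h.1.2.1 (e ▸ hu.1.2.2.symm), h.2.symm⟩, h.1.2⟩,
        fun h => ⟨⟨h.1.1, h.2⟩, h.1.2.2.symm⟩⟩
    rw [heq]
    omega
  have hS1 : ∑ a ∈ R, (L.filter fun u => Commute a u).card = 1680 * μ := by
    rw [sum_count, Finset.sum_eq_card_nsmul hone, hL, M22Struct66.card_fin, smul_eq_mul, mul_comm]
  refine ⟨31920 + μ * (μ - 127) + 20160 - 381 * (μ - 127), ?_⟩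
  have hinner : ∀ u ∈ L, (∑ v ∈ L, (R.filter fun a => Commute a u ∧ Commute a v).card) + 381 * (μ - 127) =
      31920 + μ * (μ - 127) + 20160 := by
    intro u hu
    have hu' : u ∈ com2 D d c := by simpa [hL] using hu
    obtain ⟨g126, gnc, gsum⟩ := hD.com2_split hd hc hdc hu'
    rw [hL, gsum]
    have hmem : ∀ a ∈ R, ∀ v ∈ com2 D d c, Commute a v → a ∈ nb D v := by
      intro a ha v hv h
      simp only [hR, Finset.mem_filter, mem_fin] at ha
      exact ⟨ha.1, fun e => ha.2.1 (e ▸ hv.1.2.2.symm), h.symm⟩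
    have t0 : (R.filter fun a => Commute a u ∧ Commute a u).card = 1680 := by
      simpa only [and_self_iff] using hone u hu
    have hpair : ∀ v ∈ com2 D d c, (R.filter fun a => Commute a u ∧ Commute a v) =
        (fin (com2 D u v)).filter fun a => ¬ Commute a d ∧ ¬ Commute a c ∧ ¬ Commute a z := by
      intro v hv
      ext a
      simp only [Finset.mem_filter, mem_fin]
      constructor
      · intro h
        have h' := h.1
        simp only [hR, Finset.mem_filter, mem_fin] at h'
        exact ⟨⟨hmem a h.1 u hu' h.2.1, hmem a h.1 v hv h.2.2⟩, h'.2⟩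
      · intro h
        refine ⟨?_, h.1.1.2.2.symm, h.1.2.2.2.symm⟩
        simp only [hR, Finset.mem_filter, mem_fin]
        exact ⟨h.1.1.1, h.2⟩
    have t1 : ∀ v ∈ L.filter (fun v => v ≠ u ∧ Commute u v),
        (R.filter fun a => Commute a u ∧ Commute a v).card = 240 := by
      intro v hv
      simp only [hL, Finset.mem_filter, mem_fin] at hv
      obtain ⟨hv, hvu, huv⟩ := hv
      have hcnt : ∀ p ∈ D, u ∈ nb D p → v ∈ nb D p →
          ((fin (com2 D u v)).filter fun a => Commute a p).card = 181 := by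
        intro p hpD hup hvp
        rw [card_filter_fin, show {a | a ∈ com2 D u v ∧ Commute a p} =
            insert p (nb D p ∩ nb D u ∩ nb D v) by
          ext a
          constructor
          · intro h
            by_cases hap : a = p
            · exact Or.inl hap
            · exact Or.inr ⟨⟨⟨h.1.1.1, hap, h.2.symm⟩, h.1.1⟩, h.1.2⟩
          · rintro (rfl | h)
            exacts [⟨⟨hD.nb_symm hpD hup, hD.nb_symm hpD hvp⟩, Commute.refl _⟩,
              ⟨⟨h.1.2, h.2⟩, h.1.1.2.2.symm⟩],
          Set.ncard_insert_of_notMem (fun h => h.1.1.2.1 rfl),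
          hD.ncard_com3_commute hpD hup ⟨hvp, hv.1.1, hvu, huv⟩]
      have h := hD.line_count hd hc hdc (fin (com2 D u v))
      rw [← hzdef, hboth _ (fun a ha => ha.1.1), M22Struct66.card_fin,
        hD.ncard_com2_commute hu'.1.1 ⟨hv.1.1, hvu, huv⟩, hcnt d hd hu'.1 hv.1, hcnt c hc hu'.2 hv.2,
        hcnt z hz (hzL u hu') (hzL v hv), show com2 D u v ∩ com2 D d c = com2 D d c ∩ nb D u ∩ nb D v by
          ext a; exact ⟨fun h => ⟨⟨h.2, h.1.1⟩, h.1.2⟩, fun h => ⟨⟨h.1.2, h.2⟩, h.1.1⟩⟩,
        hD.ncard_com2_nb_nb hd hc hdc hu' ⟨hv, hv.1.1, hvu, huv⟩] at h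
      rw [hpair v hv]
      omega
    have t2 : ∀ v ∈ L.filter (fun v => ¬ Commute u v),
        (R.filter fun a => Commute a u ∧ Commute a v).card + 381 =
          μ + 2 * ((L.filter fun w => w ≠ u ∧ Commute u w).filter fun w => Commute v w).card := by
      intro v hv
      simp only [hL, Finset.mem_filter, mem_fin] at hv
      obtain ⟨hv, huv⟩ := hv
      have hcnt : ∀ p ∈ D, u ∈ nb D p → v ∈ nb D p →
          ((fin (com2 D u v)).filter fun a => Commute a p).card = 127 := by
        intro p hpD hup hvp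
        rw [card_filter_fin, show {a | a ∈ com2 D u v ∧ Commute a p} =
            insert p (nb D p ∩ nb D u ∩ nb D v) by
          ext a
          constructor
          · intro h
            by_cases hap : a = p
            · exact Or.inl hap
            · exact Or.inr ⟨⟨⟨h.1.1.1, hap, h.2.symm⟩, h.1.1⟩, h.1.2⟩
          · rintro (rfl | h)
            exacts [⟨⟨hD.nb_symm hpD hup, hD.nb_symm hpD hvp⟩, Commute.refl _⟩,
              ⟨⟨h.1.2, h.2⟩, h.1.1.2.2.symm⟩],
          Set.ncard_insert_of_notMem (fun h => h.1.1.2.1 rfl),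
          hD.ncard_com3_not hpD hup hvp huv]
      have h := hD.line_count hd hc hdc (fin (com2 D u v))
      rw [← hzdef, hboth _ (fun a ha => ha.1.1), M22Struct66.card_fin,
        hD.ncard_com2_eq hu'.1.1 hv.1.1 huv hd hc hdc, hcnt d hd hu'.1 hv.1, hcnt c hc hu'.2 hv.2,
        hcnt z hz (hzL u hu') (hzL v hv)] at h
      have hq : (com2 D u v ∩ com2 D d c).ncard =
          ((L.filter fun w => w ≠ u ∧ Commute u w).filter fun w => Commute v w).card := by
        rw [hL, Finset.filter_filter, card_filter_fin]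
        congr 1
        ext a
        exact ⟨fun h => ⟨h.2, ⟨h.1.1.2.1, h.1.1.2.2⟩, h.1.2.2.2⟩,
          fun h => ⟨⟨⟨h.1.1.1, h.2.1.1, h.2.1.2⟩, h.1.1.1, fun e => huv (e ▸ h.2.1.2), h.2.2⟩, h.1⟩⟩
      rw [hpair v hv, ← hq]
      rw [← hμ] at h
      omega
    have t2' := Finset.sum_congr rfl t2
    rw [Finset.sum_add_distrib, Finset.sum_add_distrib, Finset.sum_const, Finset.sum_const, ← Finset.mul_sum,
      hD.sum_q hd hc hdc hu', smul_eq_mul, smul_eq_mul] at t2'
    rw [t0, Finset.sum_eq_card_nsmul t1, g126, smul_eq_mul]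
    rw [hL] at t2'
    rw [show ((fin (com2 D d c)).filter fun v => ¬ Commute u v).card = μ - 127 by omega] at t2'
    nlinarith [t2']
  have hpos : 0 < μ := by
    obtain ⟨hX, -⟩ := hD.card_outside hd hc hdc
    by_contra h0
    rw [← hμ, show μ = 0 by omega, mul_zero] at hX
    omega
  have hL0 : L.Nonempty := Finset.card_pos.1 (by rw [hL, M22Struct66.card_fin]; exact hpos)
  obtain ⟨u₀, hu₀⟩ := hL0
  have hT := hinner u₀ hu₀
  refine ⟨by omega, fun s' hs' hrest => ?_⟩
  have hS2 : ∑ a ∈ R, (L.filter fun u => Commute a u).card ^ 2 =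
      μ * (31920 + μ * (μ - 127) + 20160 - 381 * (μ - 127)) := by
    rw [sum_count_sq, Finset.sum_eq_card_nsmul (b := 31920 + μ * (μ - 127) + 20160 - 381 * (μ - 127)), hL,
      M22Struct66.card_fin, smul_eq_mul]
    intro u hu
    have := hinner u hu
    omega
  have hzero : ∀ a ∈ R, a ∉ s' → (L.filter fun u => Commute a u).card = 0 := by
    intro a ha hn
    rw [Finset.card_eq_zero, Finset.filter_eq_empty_iff]
    intro u hu
    exact hrest a ha hn u (by simpa [hL] using hu)
  have := sq_sum_le_card_mul_sum_sq (s := s') (f := fun a => (L.filter fun u => Commute a u).card)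
  rw [Finset.sum_subset hs' hzero, Finset.sum_subset hs' (fun a ha hn => by rw [hzero a ha hn]; rfl),
    hS1, hS2] at this
  exact this

/-- A non-commuting pair has 351 common neighbours. -/
theorem ncard_com2_not : (com2 D d c).ncard = 351 := by
  have h1 := hD.cauchy_inner hd hc hdc
  obtain ⟨hX, hDc⟩ := hD.card_outside hd hc hdc
  obtain ⟨hR, T, hT, hcs⟩ := hD.cauchy_outer hd hc hdc
  have h2 := hcs _ subset_rfl (fun a ha hn => absurd ha hn)
  set μ := (com2 D d c).ncard
  set X := {y | y ∈ D ∧ ¬ Commute d y}.ncard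
  clear_value μ X
  generalize ((fin D).filter fun a => ¬ Commute a d ∧ ¬ Commute a c ∧ ¬ Commute a (d * c * d)).card = r at hR h2
  have hpos : 0 < μ := by
    rcases Nat.eq_zero_or_pos μ with h | h
    · subst h; omega
    · exact h
  have hrange : 351 ≤ μ ∧ μ ≤ 675 := by
    rcases Nat.lt_or_ge μ 3510 with hlt | hge
    swap
    · rw [show 3510 - μ = 0 by omega, zero_mul] at h1
      simp at h1
      omega
    rcases Nat.lt_or_ge μ 68 with h68 | h68
    · rw [show 126 * μ - 8505 = 0 by omega, mul_zero, mul_zero] at h1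
      simp at h1
      omega
    have h3 : (567 * (μ : ℤ)) ^ 2 ≤ (3510 - μ) * (μ * (126 * μ - 8505)) := by
      have e1 : ((3510 - μ : ℕ) : ℤ) = 3510 - μ := by omega
      have e2 : ((126 * μ - 8505 : ℕ) : ℤ) = 126 * μ - 8505 := by omega
      rw [← e1, ← e2]
      exact_mod_cast h1
    have h4 : 321489 * (μ : ℤ) ≤ (3510 - μ) * (126 * μ - 8505) := by
      refine le_of_mul_le_mul_left (a := (μ : ℤ)) ?_ (by exact_mod_cast hpos)
      nlinarith
    constructor
    · by_contra hlo
      have : (μ : ℤ) ≤ 350 := by omega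
      nlinarith
    · by_contra hhi
      have : 676 ≤ (μ : ℤ) := by omega
      nlinarith
  obtain ⟨hlo, hhi⟩ := hrange
  have hdvd : μ ∣ 9884160 := Dvd.intro_left X hX
  have hf : 2822400 * (μ : ℤ) ^ 2 ≤
      (9884160 + 2 * (μ : ℤ) ^ 2 - 7022 * μ) * ((μ : ℤ) ^ 2 - 508 * μ + 100467) := by
    have hXz : (X : ℤ) * μ = 9884160 := by exact_mod_cast hX
    have hrz : (r : ℤ) + 10533 = 3511 + X + 2 * μ := by rw [hDc] at hR; exact_mod_cast hR
    have hTz : (T : ℤ) + 381 * ((μ : ℤ) - 127) = 31920 + μ * ((μ : ℤ) - 127) + 20160 := by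
      rw [show ((μ : ℤ) - 127) = ((μ - 127 : ℕ) : ℤ) by omega]
      exact_mod_cast hT
    have e1 : 9884160 + 2 * (μ : ℤ) ^ 2 - 7022 * μ = r * μ := by linear_combination -(μ : ℤ) * hrz - hXz
    have e2 : (μ : ℤ) ^ 2 - 508 * μ + 100467 = T := by linear_combination -hTz
    have h2z : (1680 * (μ : ℤ)) ^ 2 ≤ r * (μ * T) := by exact_mod_cast h2
    rw [e1, e2]
    linarith
  clear hcs hT h1 h2 hR hX
  interval_cases μ <;> first
    | rfl
    | (exfalso; revert hdvd; norm_num; done)
    | (exfalso; norm_num at hf; done)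

/-- The members not commuting with `d`. -/
theorem ncard_outside : {y | y ∈ D ∧ ¬ Commute d y}.ncard = 28160 := by
  obtain ⟨hX, -⟩ := hD.card_outside hd hc hdc
  rw [hD.ncard_com2_not hd hc hdc] at hX
  omega

/-- Every member off the line has a common neighbour with it. -/
theorem exists_common {a : G} (ha : a ∈ D) (had : ¬ Commute a d)
    (hac : ¬ Commute a c) (haz : ¬ Commute a (d * c * d)) : ∃ u ∈ com2 D d c, Commute a u := by
  obtain ⟨hR, T, hT, hcs⟩ := hD.cauchy_outer hd hc hdc
  obtain ⟨hX, hDc⟩ := hD.card_outside hd hc hdc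
  by_contra! hno
  set R := (fin D).filter fun a => ¬ Commute a d ∧ ¬ Commute a c ∧ ¬ Commute a (d * c * d) with hRdef
  have haR : a ∈ R := by simp [hRdef, ha, had, hac, haz]
  have h := hcs (R.erase a) (Finset.erase_subset _ _) (fun b hb hn u hu => by
    have hba : b = a := by
      by_contra hne
      exact hn (Finset.mem_erase.2 ⟨hne, hb⟩)
    exact hba ▸ hno u hu)
  have h351 := hD.ncard_com2_not hd hc hdc
  rw [Finset.card_erase_of_mem haR, h351] at h
  rw [h351] at hX hT hR
  have hXv : {y | y ∈ D ∧ ¬ Commute d y}.ncard = 28160 := by omega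
  rw [hDc, hXv] at hR
  rw [show R.card = 21840 by omega, show T = 45360 by omega] at h
  norm_num at h

end Base

end Cfsg.Agent.Lib.M23Struct19
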